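import Groth.Agent.S9549
import Groth.Agent.Lib.ParaPair.Local
import Groth.Agent.Lib.Depth.Hartogs
import Groth.Agent.Lib.Depth.Basic
import Groth.Agent.Lib.CMFree.Regular
import Groth.Agent.Lib.PicH1.Thick
import Groth.Agent.Lib.PicThick26.Artinian
import Groth.Agent.Lib.Punctured.CoherentCohom
import Mathlib.Algebra.DualNumber
import Mathlib.RingTheory.Regular.Flat

/-!
# Dual numbers over a regular local ring of dimension at least three are parafactorial
-/

set_option autoImplicit false
set_option backward.isDefEq.respectTransparency false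

universe u

open CategoryTheory CategoryTheory.Limits AlgebraicGeometry TopologicalSpace Opposite

namespace GrothLib.ParaDual

/-- A lower bound for the depth from a weakly regular sequence. -/
theorem le_depth_of_regular {R : Type u} [CommRing R] [IsLocalRing R] (rs : List R) (n : ℕ)
    (hn : n ≤ rs.length) (hm : ∀ r ∈ rs, r ∈ IsLocalRing.maximalIdeal R)
    (h : RingTheory.Sequence.IsWeaklyRegular R rs) : (n : ℕ∞) ≤ LocCoh.depth R R := by
  have hne : IsLocalRing.maximalIdeal R • (⊤ : Submodule R R) ≠ ⊤ := by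
    rw [smul_eq_mul, Ideal.mul_top]
    exact (IsLocalRing.maximalIdeal.isMaximal R).ne_top
  refine (Depth.le_idealDepth_iff_exists (IsLocalRing.maximalIdeal R) hne n).2
    ⟨rs.take n, by simp [hn], fun r hr => hm r (List.mem_of_mem_take hr), ?_⟩
  have := h
  rw [← List.take_append_drop n rs, RingTheory.Sequence.isWeaklyRegular_append_iff] at this
  exact this.1

/-- Restriction to the punctured spectrum is bijective in depth at least two. -/
theorem bijective_punctured_of_depth {A : Type u} [CommRing A] [IsLocalRing A] [IsNoetherianRing A]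
    (rs : List A) (hlen : 2 ≤ rs.length) (hm : ∀ r ∈ rs, r ∈ IsLocalRing.maximalIdeal A)
    (h : RingTheory.Sequence.IsWeaklyRegular A rs) :
    Function.Bijective ((Spec (CommRingCat.of A)).presheaf.map
      (homOfLE (le_top : FEt.puncturedSpec A ≤ ⊤)).op) := by
  have : IsNoetherianRing (CommRingCat.of A) := inferInstanceAs (IsNoetherianRing A)
  have hU : Depth.DepthTwoOutside (X := Spec (CommRingCat.of A)) (FEt.puncturedSpec A) := by
    intro x hx
    have hx' : x = IsLocalRing.closedPoint A := by
      by_contra hne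
      exact hx hne
    subst hx'
    let S := (Spec (CommRingCat.of A)).presheaf.stalk (IsLocalRing.closedPoint A)
    let : Algebra A S := (StructureSheaf.toStalk A (IsLocalRing.closedPoint A)).hom.toAlgebra
    have : IsLocalization (IsLocalRing.closedPoint A).asIdeal.primeCompl S :=
      StructureSheaf.IsLocalization.to_stalk A (IsLocalRing.closedPoint A)
    have : Module.Flat A S := IsLocalization.flat S (IsLocalRing.closedPoint A).asIdeal.primeCompl
    refine le_depth_of_regular (rs.map (algebraMap A S)) 2 (by simpa using hlen) ?_ (h.of_flat)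
    intro r hr
    obtain ⟨a, ha, rfl⟩ := List.mem_map.1 hr
    exact ((IsLocalization.AtPrime.to_map_mem_maximal_iff S (IsLocalRing.closedPoint A).asIdeal a).2 (hm a ha))
  have hb := Depth.res_bijective hU (⊤ : (Spec (CommRingCat.of A)).Opens)
  have key : ∀ (W : (Spec (CommRingCat.of A)).Opens) (hW : W = FEt.puncturedSpec A) (hle : W ≤ ⊤),
      Function.Bijective (Depth.res hle) → Function.Bijective ((Spec (CommRingCat.of A)).presheaf.map
        (homOfLE (le_top : FEt.puncturedSpec A ≤ ⊤)).op) := by
    rintro W rfl hle hW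
    exact hW
  exact key _ (top_inf_eq _) _ hb

/-- Local cohomology vanishing gives vanishing of `H¹` of the structure sheaf of the punctured spectrum. -/
theorem subsingleton_H1_punctured {B : Type u} [CommRing B] [IsLocalRing B] [IsNoetherianRing B]
    (hd : (3 : ℕ∞) ≤ LocCoh.depth B B) :
    Subsingleton (Coh.HH (↑(LocCoh.puncturedOpen B (IsLocalRing.maximalIdeal B)) : Scheme.{u})
      (Coh.structureModule _) 1) := by
  have e : (Punctured.puncFun (IsLocalRing.maximalIdeal B)).obj (ModuleCat.of (CommRingCat.of B) (CommRingCat.of B)) ≅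
      Coh.structureModule (↑(LocCoh.puncturedOpen B (IsLocalRing.maximalIdeal B)) : Scheme.{u}) :=
    (Scheme.Modules.restrictFunctor (LocCoh.puncturedOpen B (IsLocalRing.maximalIdeal B)).ι).mapIso tildeSelf ≪≫
      Scheme.Modules.restrictUnitIso _
  obtain ⟨f⟩ := Punctured.nonempty_HH_equiv_of_iso (IsLocalRing.maximalIdeal B) _ _ e 0
  have h2 : Subsingleton (LocCoh.H (IsLocalRing.maximalIdeal B) 2 B) :=
    (Depth.le_idealDepth_iff_H (IsLocalRing.maximalIdeal B) (M := B) 3).1 hd 2 (by norm_num)
  exact @Equiv.subsingleton _ _ f.toEquiv h2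

variable (B : Type u) [CommRing B]

/-- `B[ε] = B × B` as `B`-modules. -/
noncomputable def dualEquivProd : DualNumber B ≃ₗ[B] B × B where
  toFun x := (x.fst, x.snd)
  invFun p := TrivSqZeroExt.inl p.1 + TrivSqZeroExt.inr p.2
  map_add' _ _ := rfl
  map_smul' _ _ := rfl
  left_inv x := TrivSqZeroExt.inl_fst_add_inr_snd_eq x
  right_inv p := by simp

set_option maxHeartbeats 1000000 in
theorem isParafactorial [IsRegularLocalRing B] (hdim : (3 : WithBot ℕ∞) ≤ ringKrullDim B)
    [IsLocalRing (DualNumber B)] : ParaF.IsParafactorialLocalRing (DualNumber B) := by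
  let A := DualNumber B
  have : Module.Free B A := Module.Free.of_equiv (dualEquivProd B).symm
  have : Module.Finite B A := Module.Finite.equiv (dualEquivProd B).symm
  have : IsNoetherianRing A := IsNoetherianRing.of_finite B A
  obtain ⟨rs, hrs, hrm, hlen⟩ := CMFree.exists_weaklyRegular_of_isRegularLocalRing B
  have hlen3 : 3 ≤ rs.length := by
    rw [← hlen] at hdim
    exact_mod_cast hdim
  let φ : A →+* B := (TrivSqZeroExt.fstHom B B B).toRingHom
  have hφ : Function.Surjective φ := fun b => ⟨TrivSqZeroExt.inl b, rfl⟩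
  have hmA : ∀ r ∈ rs.map (algebraMap B A), r ∈ IsLocalRing.maximalIdeal A := by
    intro r hr
    obtain ⟨b, hb, rfl⟩ := List.mem_map.1 hr
    intro hu
    exact hrm b hb (by simpa [φ] using hu.map φ)
  have hregA : RingTheory.Sequence.IsWeaklyRegular A (rs.map (algebraMap B A)) := hrs.of_flat
  refine (ParaPair.isParafactorialLocalRing_iff A).2
    ⟨bijective_punctured_of_depth _ (by simp; omega) hmA hregA, ?_⟩
  intro L hL
  let X : Scheme.{u} := FEt.puncturedSpec A
  let g : X ⟶ Spec (CommRingCat.of A) := (FEt.puncturedSpec A).ι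
  let Y : Scheme.{u} := pullback g (Spec.map (CommRingCat.ofHom φ))
  let j : Y ⟶ X := pullback.fst g (Spec.map (CommRingCat.ofHom φ))
  let p : Y ⟶ Spec (CommRingCat.of B) := pullback.snd g (Spec.map (CommRingCat.ofHom φ))
  have : IsClosedImmersion (Spec.map (CommRingCat.ofHom φ)) := IsClosedImmersion.spec_of_surjective _ hφ
  have : IsClosedImmersion j := MorphismProperty.pullback_fst _ _ inferInstance
  have : IsOpenImmersion p := inferInstance
  have hrange : Set.range p = Set.range (LocCoh.puncturedOpen B (IsLocalRing.maximalIdeal B)).ι := by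
    rw [Scheme.Opens.range_ι]
    ext y
    rw [Scheme.Pullback.range_snd, Set.mem_preimage, Scheme.Opens.range_ι]
    show PrimeSpectrum.comap φ y ≠ IsLocalRing.closedPoint A ↔
      ¬ (IsLocalRing.maximalIdeal B : Set B) ⊆ y.asIdeal
    have hloc : IsLocalHom φ := IsLocalHom.of_surjective φ hφ
    have hcp : PrimeSpectrum.comap φ (IsLocalRing.closedPoint B) = IsLocalRing.closedPoint A :=
      IsLocalRing.comap_closedPoint φ
    rw [← hcp, Ne, (PrimeSpectrum.comap_injective_of_surjective φ hφ).eq_iff]
    refine not_congr ⟨fun h => h ▸ subset_rfl, fun h => PrimeSpectrum.ext ?_⟩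
    exact (IsLocalRing.maximalIdeal.isMaximal B).eq_of_le y.isPrime.ne_top h |>.symm
  let e := IsOpenImmersion.isoOfRangeEq p (LocCoh.puncturedOpen B (IsLocalRing.maximalIdeal B)).ι hrange
  have hH : Subsingleton (Coh.HH Y (Coh.structureModule Y) 1) :=
    PicThick26.subsingleton_HH_structure_of_iso e.hom 1
      (subsingleton_H1_punctured (le_depth_of_regular rs 3 hlen3 hrm hrs))
  have hmul : ∀ a : DualNumber B, (a * DualNumber.eps).fst = 0 ∧ (a * DualNumber.eps).snd = a.fst := fun a => by
    simp [TrivSqZeroExt.fst_mul, TrivSqZeroExt.snd_mul, DualNumber.snd_mul]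
  have ht : RingHom.ker φ = Ideal.span {(DualNumber.eps : A)} := by
    ext x
    rw [RingHom.mem_ker, Ideal.mem_span_singleton']
    constructor
    · intro hx
      exact ⟨TrivSqZeroExt.inl x.snd,
        TrivSqZeroExt.ext ((hmul _).1.trans (show x.fst = 0 from hx).symm) ((hmul _).2.trans rfl)⟩
    · rintro ⟨a, rfl⟩
      exact (hmul a).1
  have hann : ∀ a, a ∈ RingHom.ker φ ↔ a * (DualNumber.eps : A) = 0 := by
    intro a
    rw [RingHom.mem_ker]
    constructor
    · intro ha
      exact TrivSqZeroExt.ext ((hmul a).1.trans rfl) ((hmul a).2.trans ha)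
    · intro ha
      exact (hmul a).2.symm.trans ((congrArg TrivSqZeroExt.snd ha).trans rfl)
  have H : IsPullback j p g (Spec.map (CommRingCat.ofHom φ)) := IsPullback.of_hasPullback _ _
  have hsq : UnitsThick26.IsSqZero j :=
    UnitsThick26.isSqZero_of_isPullback H hφ ht DualNumber.eps_mul_eps
  obtain ⟨d⟩ := UnitsThick26.nonempty_H_kerMod_equiv H hφ ht H hφ hann 1
  have hk : Subsingleton (Sheaf.H.{u} (Coh.toAb (UnitsThick26.kerMod j)) 1) :=
    @Equiv.subsingleton _ _ d.toEquiv hH
  have hinj := PicH1.pull_injective_of_H1 hsq hk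
  have hO : PicF.IsInvertible (Coh.structureModule X) := Euler.isInvertible_structure
  have key : PicF.cl L = PicF.cl (Coh.structureModule X) := by
    refine PicH1.cl_eq_of_pullCl_eq j hinj ⟨L, rfl, hL⟩ ⟨_, rfl, hO⟩ ?_
    show PicF.cl ((Scheme.Modules.pullback j).obj L) = PicF.cl ((Scheme.Modules.pullback j).obj (Coh.structureModule X))
    obtain ⟨eO⟩ := Ample.nonempty_pullback_structureModule j
    refine Quot.sound ?_
    have hrange' : Set.range p = Set.range (FEt.puncturedSpec B).ι := by
      rw [hrange, Scheme.Opens.range_ι, Scheme.Opens.range_ι]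
      ext y
      show ¬ (IsLocalRing.maximalIdeal B : Set B) ⊆ y.asIdeal ↔ y ≠ IsLocalRing.closedPoint B
      refine not_congr ⟨fun h => PrimeSpectrum.ext ?_, fun h => h ▸ subset_rfl⟩
      exact (IsLocalRing.maximalIdeal.isMaximal B).eq_of_le y.isPrime.ne_top h |>.symm
    let e' := IsOpenImmersion.isoOfRangeEq p (FEt.puncturedSpec B).ι hrange'
    have hLj := Ample.isInvertible_pullback j hL
    obtain ⟨t⟩ := Groth.Agent.S9549.result B ((Scheme.Modules.pullback e'.inv).obj ((Scheme.Modules.pullback j).obj L))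
      (Ample.isInvertible_pullback e'.inv hLj)
    obtain ⟨eE⟩ := Ample.nonempty_pullback_structureModule e'.hom
    exact ⟨((Scheme.Modules.pullbackId _).app _).symm ≪≫
      (Scheme.Modules.pullbackCongr e'.hom_inv_id.symm).app _ ≪≫
      ((Scheme.Modules.pullbackComp e'.hom e'.inv).app _).symm ≪≫
      (Scheme.Modules.pullback e'.hom).mapIso t ≪≫ eE ≪≫ eO.symm⟩
  have hE := (Quot.eq.1 key)
  clear key hL
  revert hE
  generalize Coh.structureModule X = M₀
  intro hE
  induction hE with
  | rel _ _ h => exact h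
  | refl _ => exact ⟨Iso.refl _⟩
  | symm _ _ _ ih => exact ⟨(ih).some.symm⟩
  | trans _ _ _ _ _ ih₁ ih₂ => exact ⟨ih₁.some ≪≫ ih₂.some⟩

end GrothLib.ParaDual
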